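import Cfsg.Agent.Lib.Helper6.HKK.Defs

/-!
# HKK (S3779), wave 3: the model-independent final descent (helper84)

From any Lie ring `L` with maps `iota n : lcs n → L` behaving like the associated Lie ring of the
lower central series, nilpotency of `L` of class `≤ h` gives `lcs h = ⊥` for nilpotent `G`.
-/

set_option autoImplicit false

namespace Cfsg.Agent.Lib.Helper84.HKK

open Cfsg.Agent.Lib.Helper6.HKK
open scoped commutatorElement

variable {G : Type*} [Group G] {L : Type*} [LieRing L]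

/-- the additive span of the left-normed brackets of length `n` of elements of degree `0` -/
def DSpan (ι : ∀ (n : ℕ) (g : G), g ∈ (⊤ : Subgroup G).lowerCentralSeries n → L) (n : ℕ) :
    AddSubgroup L :=
  AddSubgroup.closure {z | ∃ (x : L) (l : List L), l.length = n ∧ z = lnb x l}

theorem lnb_concat (x : L) (l : List L) (y : L) : lnb x (l ++ [y]) = ⁅lnb x l, y⁆ := by
  simp [lnb, List.foldl_append]

theorem D_lie_mem (ι : ∀ (n : ℕ) (g : G), g ∈ (⊤ : Subgroup G).lowerCentralSeries n → L) (n : ℕ)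
    {z : L} (hz : z ∈ DSpan ι n) (y : L) : ⁅z, y⁆ ∈ DSpan ι (n + 1) := by
  unfold DSpan at hz
  induction hz using AddSubgroup.closure_induction with
  | mem z hz =>
    obtain ⟨x, l, hl, rfl⟩ := hz
    exact AddSubgroup.subset_closure ⟨x, l ++ [y], by simp [hl], (lnb_concat x l y).symm⟩
  | zero => rw [zero_lie]; exact zero_mem _
  | add a b _ _ ha hb => rw [add_lie]; exact add_mem ha hb
  | neg a _ ha => rw [neg_lie]; exact neg_mem ha

theorem iota_mem_DSpan (ι : ∀ (n : ℕ) (g : G), g ∈ (⊤ : Subgroup G).lowerCentralSeries n → L)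
    (hmul : ∀ n g g' hg hg' hgg', ι n (g * g') hgg' = ι n g hg + ι n g' hg')
    (hbr : ∀ n g hg b hb hgb, ⁅ι n g hg, ι 0 b hb⁆ = ι (n + 1) ⁅g, b⁆ hgb) :
    ∀ n g hg, ι n g hg ∈ DSpan ι n := by
  have hone : ∀ n h1, ι n 1 h1 = 0 := by
    intro n h1
    have := hmul n 1 1 h1 h1 (by rw [mul_one]; exact h1)
    have e : ι n (1 * 1) (by rw [mul_one]; exact h1) = ι n 1 h1 := by congr 1; exact mul_one 1
    rw [e] at this
    exact left_eq_add.1 this
  have hinv : ∀ n g hg hg', ι n g⁻¹ hg' = - ι n g hg := by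
    intro n g hg hg'
    have := hmul n g⁻¹ g hg' hg (by rw [inv_mul_cancel]; exact one_mem _)
    have e : ι n (g⁻¹ * g) (by rw [inv_mul_cancel]; exact one_mem _) = ι n 1 (one_mem _) := by
      congr 1; exact inv_mul_cancel g
    rw [e, hone] at this
    exact eq_neg_of_add_eq_zero_left this.symm
  intro n
  induction n with
  | zero =>
    intro g hg
    exact AddSubgroup.subset_closure ⟨ι 0 g hg, [], rfl, rfl⟩
  | succ n ih =>
    intro g hg
    have key : ∀ g (_ : g ∈ ⁅(⊤ : Subgroup G).lowerCentralSeries n, (⊤ : Subgroup G)⁆),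
        ∀ hg', ι (n + 1) g hg' ∈ DSpan ι (n + 1) := by
      intro g hg0
      unfold Bracket.bracket Subgroup.commutator at hg0
      induction hg0 using Subgroup.closure_induction with
      | mem x hx =>
        obtain ⟨a, ha, b, hb, rfl⟩ := hx
        intro hg'
        rw [← hbr n a ha b hb hg']
        exact D_lie_mem ι n (ih a ha) _
      | one => intro h1; rw [hone]; exact zero_mem _
      | mul a b ha hb iha ihb =>
        intro hg'
        rw [hmul (n + 1) a b ha hb hg']
        exact add_mem (iha ha) (ihb hb)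
      | inv a ha iha =>
        intro hg'
        rw [hinv (n + 1) a ha hg']
        exact neg_mem (iha ha)
    exact key g hg hg

/-- `lcs h ≤ lcs (h+1)` -/
theorem lcs_le_succ_of_lnb (ι : ∀ (n : ℕ) (g : G), g ∈ (⊤ : Subgroup G).lowerCentralSeries n → L)
    (hmul : ∀ n g g' hg hg' hgg', ι n (g * g') hgg' = ι n g hg + ι n g' hg')
    (hker : ∀ n g hg, ι n g hg = 0 → g ∈ (⊤ : Subgroup G).lowerCentralSeries (n + 1))
    (hbr : ∀ n g hg b hb hgb, ⁅ι n g hg, ι 0 b hb⁆ = ι (n + 1) ⁅g, b⁆ hgb)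
    (h : ℕ) (hL : ∀ (x : L) (l : List L), l.length = h → lnb x l = 0) :
    (⊤ : Subgroup G).lowerCentralSeries h ≤ (⊤ : Subgroup G).lowerCentralSeries (h + 1) := by
  intro g hg
  apply hker h g hg
  have h1 := iota_mem_DSpan ι hmul hbr h g hg
  have h2 : DSpan ι h = ⊥ := by
    unfold DSpan
    rw [AddSubgroup.closure_eq_bot_iff]
    rintro z ⟨x, l, hl, rfl⟩
    exact hL x l hl
  rw [h2] at h1
  exact h1

theorem lcs_eq_bot_of_le_succ [hn : Group.IsNilpotent G] (h : ℕ)
    (hle : (⊤ : Subgroup G).lowerCentralSeries h ≤ (⊤ : Subgroup G).lowerCentralSeries (h + 1)) :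
    (⊤ : Subgroup G).lowerCentralSeries h = ⊥ := by
  obtain ⟨N, hN⟩ := Subgroup.nilpotent_iff_lowerCentralSeries.1 hn
  have hanti := Subgroup.lowerCentralSeries_antitone (⊤ : Subgroup G)
  have hstep : ∀ k, (⊤ : Subgroup G).lowerCentralSeries (h + k) =
      (⊤ : Subgroup G).lowerCentralSeries h := by
    intro k
    induction k with
    | zero => rfl
    | succ k ih =>
      have e1 : (⊤ : Subgroup G).lowerCentralSeries (h + (k + 1)) =
          ⁅(⊤ : Subgroup G).lowerCentralSeries (h + k), (⊤ : Subgroup G)⁆ := rfl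
      rw [e1, ih]
      exact le_antisymm (hanti (Nat.le_succ h)) hle
  have h1 : (⊤ : Subgroup G).lowerCentralSeries (h + N) ≤ (⊤ : Subgroup G).lowerCentralSeries N :=
    hanti (Nat.le_add_left N h)
  rw [hstep, hN] at h1
  exact le_bot_iff.1 h1

/-- the final descent -/
theorem lcs_eq_bot_of_lnb [Group.IsNilpotent G]
    (ι : ∀ (n : ℕ) (g : G), g ∈ (⊤ : Subgroup G).lowerCentralSeries n → L)
    (hmul : ∀ n g g' hg hg' hgg', ι n (g * g') hgg' = ι n g hg + ι n g' hg')
    (hker : ∀ n g hg, ι n g hg = 0 → g ∈ (⊤ : Subgroup G).lowerCentralSeries (n + 1))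
    (hbr : ∀ n g hg b hb hgb, ⁅ι n g hg, ι 0 b hb⁆ = ι (n + 1) ⁅g, b⁆ hgb)
    (h : ℕ) (hL : ∀ (x : L) (l : List L), l.length = h → lnb x l = 0) :
    (⊤ : Subgroup G).lowerCentralSeries h = ⊥ :=
  lcs_eq_bot_of_le_succ h (lcs_le_succ_of_lnb ι hmul hker hbr h hL)

end Cfsg.Agent.Lib.Helper84.HKK
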